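import Groth.Agent.ClassBoundLib.Points
import Groth.Agent.PowEtCentralLib.Transport
import Groth.Agent.GISpreadLib.Invariance
import Groth.Agent.GISpreadLib.Cons
import Groth.Agent.WeightLib.Constr
import Groth.Agent.WeilLib.Geometry
import Groth.Agent.S1338
import Groth.Agent.AlgSpLib.Sep
import Groth.Agent.RichLib.FibreRange

/-!
The loci of solvable and of nilpotent geometric fibres of a group scheme with smooth fibres.
-/

set_option autoImplicit false
set_option backward.isDefEq.respectTransparency false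
set_option maxHeartbeats 1000000

noncomputable section

universe u

open CategoryTheory CategoryTheory.Limits MonoidalCategory CartesianMonoidalCategory AlgebraicGeometry Topology
open scoped commutatorElement MonObj TensorProduct

namespace Groth.Agent.ClassBound

attribute [-instance] CategoryTheory.Hom.commGroup

variable {S : Scheme.{u}}

/-- Properties stable under base change and composition pass to the sources of the words. -/
theorem dp_prop (Q : MorphismProperty Scheme.{u}) [Q.IsStableUnderBaseChange] [Q.IsStableUnderComposition]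
    {G : Over S} (h : Q G.hom) : ∀ n, Q (DP G n).hom
  | 0 => h
  | n + 1 => Q.comp_mem _ _ (Q.pullback_fst _ _ (dp_prop Q h n)) (dp_prop Q h n)

theorem cp_prop (Q : MorphismProperty Scheme.{u}) [Q.IsStableUnderBaseChange] [Q.IsStableUnderComposition]
    {G : Over S} (h : Q G.hom) : ∀ n, Q (CP G n).hom
  | 0 => h
  | n + 1 => Q.comp_mem _ _ (Q.pullback_fst _ _ h) (cp_prop Q h n)

instance dp_lft (G : Over S) [LocallyOfFiniteType G.hom] (n : ℕ) : LocallyOfFiniteType (DP G n).hom :=
  dp_prop @LocallyOfFiniteType ‹_› n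

instance cp_lft (G : Over S) [LocallyOfFiniteType G.hom] (n : ℕ) : LocallyOfFiniteType (CP G n).hom :=
  cp_prop @LocallyOfFiniteType ‹_› n

instance dp_smooth (G : Over S) [Smooth G.hom] (n : ℕ) : Smooth (DP G n).hom :=
  dp_prop @Smooth ‹_› n

instance cp_smooth (G : Over S) [Smooth G.hom] (n : ℕ) : Smooth (CP G n).hom :=
  cp_prop @Smooth ‹_› n

/-- Over a field: a word trivial on the points in a geometric point is trivial. -/
theorem eq_one_of_pts {k : Type u} [Field k] {G P : Over (Spec (CommRingCat.of k))} [GrpObj G] [Smooth P.hom]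
    (w : P ⟶ G) {K : Type u} [Field K] [IsAlgClosed K] (p : Spec (CommRingCat.of K) ⟶ Spec (CommRingCat.of k))
    (h : ∀ x : Over.mk p ⟶ P, x ≫ w = 1) : w = 1 := by
  haveI : IsReduced P.left := AlgSpLib.isReduced_of_smooth P.hom
  haveI : Subsingleton ↥(Spec (CommRingCat.of k)) := inferInstanceAs (Subsingleton (PrimeSpectrum k))
  refine eq_one_of_unitSet w (Set.eq_univ_of_forall fun z => (forall_comp_eq_one_iff p w).1 h ?_)
  exact Subsingleton.elim _ _

theorem derivedSeries_iff_pts {k : Type u} [Field k] (G : Over (Spec (CommRingCat.of k))) [GrpObj G] [Smooth G.hom]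
    {K : Type u} [Field K] [IsAlgClosed K] (p : Spec (CommRingCat.of K) ⟶ Spec (CommRingCat.of k)) (n : ℕ) :
    (∀ T : Over (Spec (CommRingCat.of k)), derivedSeries (T ⟶ G) n = ⊥) ↔ derivedSeries (Over.mk p ⟶ G) n = ⊥ := by
  refine ⟨fun h => h _, fun h => (forall_derivedSeries_iff n).2 ?_⟩
  exact eq_one_of_pts _ p ((derivedSeries_eq_bot_iff _ n).1 h)

theorem lcs_iff_pts {k : Type u} [Field k] (G : Over (Spec (CommRingCat.of k))) [GrpObj G] [Smooth G.hom]
    {K : Type u} [Field K] [IsAlgClosed K] (p : Spec (CommRingCat.of K) ⟶ Spec (CommRingCat.of k)) (n : ℕ) :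
    (∀ T : Over (Spec (CommRingCat.of k)), (⊤ : Subgroup (T ⟶ G)).lowerCentralSeries n = ⊥) ↔
      (⊤ : Subgroup (Over.mk p ⟶ G)).lowerCentralSeries n = ⊥ := by
  refine ⟨fun h => h _, fun h => (forall_lcs_iff n).2 ?_⟩
  exact eq_one_of_pts _ p ((lcs_eq_bot_iff _ n).1 h)

/-- Rational points of a base change are the points with values in the geometric point. -/
def ptsEquiv {K : Type u} [Field K] (p : Spec (CommRingCat.of K) ⟶ S) (G : Over S) [GrpObj G] :
    (𝟙_ (Over (Spec (CommRingCat.of K))) ⟶ Red.bc p G) ≃* (Over.mk p ⟶ G) :=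
  (PowEtCentralLib.adjEquiv (G := G) p (𝟙_ (Over (Spec (CommRingCat.of K))))).symm.trans
    (let e : Over.mk p ≅ (Over.map p).obj (𝟙_ (Over (Spec (CommRingCat.of K)))) :=
      Over.isoMk (Iso.refl _) (by
        show 𝟙 _ ≫ 𝟙 _ ≫ p = p
        rw [Category.id_comp, Category.id_comp])
     { toFun := fun x => e.hom ≫ x
       invFun := fun x => e.inv ≫ x
       left_inv := fun x => e.inv_hom_id_assoc x
       right_inv := fun x => e.hom_inv_id_assoc x
       map_mul' := fun x y => MonObj.comp_mul e.hom x y })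

variable (G : Over S) [GrpObj G] [LocallyOfFiniteType G.hom]

/-- The set of points over which the `n`-th derived word is trivial. -/
def dSet (n : ℕ) : Set S := {s | (DP G n).hom.base ⁻¹' {s} ⊆ unitSet (dw G n)}

/-- The set of points over which the `n`-th lower central word is trivial. -/
def cSet (n : ℕ) : Set S := {s | (CP G n).hom.base ⁻¹' {s} ⊆ unitSet (cw G n)}

theorem mem_dSet_iff {K : Type u} [Field K] [IsAlgClosed K] (p : Spec (CommRingCat.of K) ⟶ S) (n : ℕ) :
    p.base (IsLocalRing.closedPoint K) ∈ dSet G n ↔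
      derivedSeries (𝟙_ (Over (Spec (CommRingCat.of K))) ⟶ Red.bc p G) n = ⊥ := by
  rw [derivedSeries_congr (ptsEquiv p G) n, derivedSeries_eq_bot_iff, forall_comp_eq_one_iff p (dw G n)]
  rfl

theorem mem_cSet_iff {K : Type u} [Field K] [IsAlgClosed K] (p : Spec (CommRingCat.of K) ⟶ S) (n : ℕ) :
    p.base (IsLocalRing.closedPoint K) ∈ cSet G n ↔
      (⊤ : Subgroup (𝟙_ (Over (Spec (CommRingCat.of K))) ⟶ Red.bc p G)).lowerCentralSeries n = ⊥ := by
  rw [lcs_congr (ptsEquiv p G) n, lcs_eq_bot_iff, forall_comp_eq_one_iff p (cw G n)]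
  rfl

theorem geomPt_apply (s : S) : (Red.geomPt s).base (IsLocalRing.closedPoint (AlgebraicClosure (S.residueField s))) = s :=
  (Scheme.Hom.comp_apply _ _ _).trans (S.fromSpecResidueField_apply s _)

/-- Local bound of the dimension of the geometric fibres. -/
theorem exists_dim_bound {R : CommRingCat.{u}} {X : Scheme.{u}} (f : X ⟶ Spec R) [LocallyOfFiniteType f]
    [QuasiCompact f] :
    ∃ d : ℕ, ∀ (K : Type u) [Field K] (p : Spec (CommRingCat.of K) ⟶ Spec R),
      topologicalKrullDim ↥(pullback f p) ≤ (d : WithBot ℕ∞) := by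
  haveI : CompactSpace X := QuasiCompact.compactSpace_of_compactSpace f
  have hgen : ∀ V : X.affineOpens, ∃ m : ℕ, ∀ (K : Type u) [Field K] (p : Spec (CommRingCat.of K) ⟶ Spec R),
      topologicalKrullDim ↥(pullback (V.2.fromSpec ≫ f) p) ≤ (m : WithBot ℕ∞) := by
    intro V
    obtain ⟨φ, hφ⟩ : ∃ φ, Spec.map φ = V.2.fromSpec ≫ f := ⟨Spec.preimage _, Spec.map_preimage _⟩
    letI := φ.hom.toAlgebra
    haveI : LocallyOfFiniteType (Spec.map φ) := by rw [hφ]; infer_instance
    have hft : φ.hom.FiniteType := (HasRingHomProperty.Spec_iff (P := @LocallyOfFiniteType)).1 ‹_›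
    haveI : Algebra.FiniteType R Γ(X, V.1) := hft
    obtain ⟨m, g, hg⟩ := Algebra.FiniteType.iff_quotient_mvPolynomial''.1 ‹Algebra.FiniteType R Γ(X, V.1)›
    refine ⟨m, fun K _ p => ?_⟩
    obtain ⟨ψ, hψ⟩ : ∃ ψ, Spec.map ψ = p := ⟨Spec.preimage p, Spec.map_preimage p⟩
    letI := ψ.hom.toAlgebra
    let h : MvPolynomial (Fin m) K →ₐ[K] K ⊗[R] Γ(X, V.1) := MvPolynomial.aeval fun i => (1 : K) ⊗ₜ g (MvPolynomial.X i)
    have hh : Function.Surjective h := by
      intro y
      induction y using TensorProduct.induction_on with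
      | zero => exact ⟨0, map_zero h⟩
      | tmul c a =>
        obtain ⟨q, rfl⟩ := hg a
        refine ⟨MvPolynomial.C c * MvPolynomial.map (algebraMap R K) q, ?_⟩
        have e : h (MvPolynomial.map (algebraMap R K) q) = (1 : K) ⊗ₜ g q := by
          induction q using MvPolynomial.induction_on with
          | C r =>
            rw [MvPolynomial.map_C, ← MvPolynomial.algebraMap_eq, AlgHom.commutes, ← MvPolynomial.algebraMap_eq, show g (algebraMap R (MvPolynomial (Fin m) R) r) = algebraMap R Γ(X, V.1) r from g.commutes r]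
            rw [Algebra.TensorProduct.algebraMap_apply, ← Algebra.TensorProduct.tmul_one_eq_one_tmul]
            rfl
          | add q₁ q₂ h₁ h₂ => rw [map_add, map_add, h₁, h₂, map_add, TensorProduct.tmul_add]
          | mul_X q i hq =>
            rw [map_mul, map_mul, hq, MvPolynomial.map_X, map_mul, MvPolynomial.aeval_X,
              Algebra.TensorProduct.tmul_mul_tmul, _root_.one_mul]
        rw [map_mul, e, ← MvPolynomial.algebraMap_eq, AlgHom.commutes, Algebra.TensorProduct.algebraMap_apply,
          Algebra.TensorProduct.tmul_mul_tmul, _root_.mul_one, _root_.one_mul]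
        rfl
      | add a b ha hb =>
        obtain ⟨a', rfl⟩ := ha
        obtain ⟨b', rfl⟩ := hb
        exact ⟨a' + b', map_add h a' b'⟩
    have e1 : pullback (V.2.fromSpec ≫ f) p ≅ Spec (CommRingCat.of (K ⊗[R] Γ(X, V.1))) :=
      pullback.congrHom hφ.symm hψ.symm ≪≫ pullbackSymmetry _ _ ≪≫ pullbackSpecIso R K Γ(X, V.1)
    rw [e1.hom.homeomorph.isHomeomorph.topologicalKrullDim_eq]
    change topologicalKrullDim (PrimeSpectrum (K ⊗[R] Γ(X, V.1))) ≤ _
    rw [PrimeSpectrum.topologicalKrullDim_eq_ringKrullDim]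
    refine (ringKrullDim_le_of_surjective h.toRingHom hh).trans ?_
    rw [MvPolynomial.ringKrullDim_of_isNoetherianRing, ringKrullDim_eq_zero_of_field, zero_add]
    simp
  choose m hm using hgen
  obtain ⟨t, ht⟩ := isCompact_univ.elim_finite_subcover
    (fun V : X.affineOpens => ((V : X.Opens) : Set X)) (fun V => V.1.isOpen) (fun x _ => by
      obtain ⟨U, hU, hx, -⟩ := exists_isAffineOpen_mem_and_subset (x := x) (U := ⊤) trivial
      exact Set.mem_iUnion.2 ⟨⟨U, hU⟩, hx⟩)
  refine ⟨t.sup m, fun K _ p => WeilLib.topologicalKrullDim_le_of_forall_mem fun z => ?_⟩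
  obtain ⟨V, hV, hz⟩ := Set.mem_iUnion₂.1 (ht (Set.mem_univ ((pullback.fst f p).base z)))
  let j : pullback (V.2.fromSpec ≫ f) p ⟶ pullback f p :=
    pullback.map _ _ _ _ V.2.fromSpec (𝟙 _) (𝟙 _) (Category.comp_id _) rfl
  haveI : IsOpenImmersion j := inferInstance
  refine ⟨Set.range j.base, j.isOpenEmbedding.isOpen_range, ?_, ?_⟩
  · have hzr : (pullback.fst f p).base z ∈ Set.range V.2.fromSpec.base := by rw [V.2.range_fromSpec]; exact hz
    obtain ⟨v, hv⟩ := hzr
    have hvp : (V.2.fromSpec ≫ f).base v = p.base ((pullback.snd f p).base z) := by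
      rw [Scheme.Hom.comp_apply, hv, ← Scheme.Hom.comp_apply, pullback.condition, Scheme.Hom.comp_apply]
    rw [Scheme.Pullback.range_map]
    exact ⟨⟨v, hv⟩, ⟨(pullback.snd f p).base z, by simp⟩⟩
  · rw [← (j.isOpenEmbedding.isEmbedding.toHomeomorph).isHomeomorph.topologicalKrullDim_eq]
    exact (hm V K p).trans (by exact_mod_cast Finset.le_sup hV)

/-- Local bound of the number of irreducible components of the geometric fibres. -/
theorem exists_comp_bound [IsAffine S] [LocallyOfFinitePresentation G.hom] [QuasiCompact G.hom]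
    [QuasiSeparated G.hom] :
    ∃ N : ℕ, ∀ s : S, (irreducibleComponents ↥(pullback G.hom (Red.geomPt s))).encard ≤ N := by
  have hfin : ∀ s : S, ∃ n : ℕ, MoreMor.nGeomIrredComp G.hom s = n := fun s => by
    let F := pullback G.hom (Red.geomPt s)
    have hsc : (irreducibleComponents ↥F).encard = MoreMor.nGeomIrredComp G.hom s :=
      (GISpreadLib.sameComp_geomFiber G.hom _ (Red.geomPt s) s (geomPt_apply s)).1
    haveI : IsLocallyNoetherian F := LocallyOfFiniteType.isLocallyNoetherian (pullback.snd G.hom (Red.geomPt s))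
    haveI : CompactSpace F := QuasiCompact.compactSpace_of_compactSpace (pullback.snd G.hom (Red.geomPt s))
    haveI : IsNoetherian F := {}
    obtain ⟨n, hn⟩ := ENat.ne_top_iff_exists.1
      (Set.encard_ne_top_iff.2 (TopologicalSpace.NoetherianSpace.finite_irreducibleComponents (α := ↥F)))
    exact ⟨n, hsc.symm.trans hn.symm⟩
  obtain ⟨t, ht⟩ := WeightLib.exists_finset_cover
    (fun n : ℕ => {s : S | MoreMor.nGeomIrredComp G.hom s = n})
    (fun n => (Groth.Agent.S1338.result G.hom (n : ℕ∞)).isConstructible) hfin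
  refine ⟨t.sup id, fun s => ?_⟩
  obtain ⟨n, hn, hsn⟩ := ht s
  refine (GISpreadLib.sameComp_geomFiber G.hom _ (Red.geomPt s) s (geomPt_apply s)).1.trans_le ?_
  exact (le_of_eq hsn).trans (by exact_mod_cast Finset.le_sup (f := id) hn)

/-- On an affine open, solvability and nilpotency of the geometric fibres are detected by one word. -/
theorem exists_bound [LocallyOfFinitePresentation G.hom] [QuasiCompact G.hom] [QuasiSeparated G.hom]
    (hsm : ∀ s : S, Smooth (Red.geomFibre s G).hom) (U : S.Opens) (hU : IsAffineOpen U) :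
    ∃ B : ℕ, ∀ s ∈ U, (Red.IsSolvableGrp (Red.geomFibre s G) ↔ s ∈ dSet G B) ∧
      (AGF.IsNilpotentGrp (Red.geomFibre s G) ↔ s ∈ cSet G B) := by
  haveI : IsAffine U.toScheme := hU
  let G' : Over U.toScheme := Red.bc U.ι G
  haveI : LocallyOfFinitePresentation G'.hom := MorphismProperty.pullback_snd G.hom U.ι inferInstance
  haveI : QuasiCompact G'.hom := MorphismProperty.pullback_snd G.hom U.ι inferInstance
  haveI : QuasiSeparated G'.hom := MorphismProperty.pullback_snd G.hom U.ι inferInstance
  obtain ⟨N, hN⟩ := exists_comp_bound G'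
  let φ : U.toScheme ≅ Spec Γ(U.toScheme, ⊤) := U.toScheme.isoSpec
  obtain ⟨d, hd⟩ := exists_dim_bound (G'.hom ≫ φ.hom)
  refine ⟨d + N, fun s hs => ?_⟩
  let u : U.toScheme := ⟨s, hs⟩
  let H := Red.geomFibre s G
  haveI := hsm s
  have hpt := geomPt_apply (S := S) s
  -- the geometric fibre, seen over `U`
  have hrange : Set.range (Red.geomPt s).base ⊆ Set.range U.ι.base := by
    rintro _ ⟨x, rfl⟩
    haveI : Subsingleton ↥(Spec (CommRingCat.of (AlgebraicClosure (S.residueField s)))) :=
      inferInstanceAs (Subsingleton (PrimeSpectrum _))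
    rw [Subsingleton.elim x (IsLocalRing.closedPoint _), hpt, Scheme.Opens.range_ι]
    exact hs
  let p' := IsOpenImmersion.lift U.ι (Red.geomPt s) hrange
  have hp' : p' ≫ U.ι = Red.geomPt s := IsOpenImmersion.lift_fac _ _ _
  have hp'u : p'.base (IsLocalRing.closedPoint _) = u := U.ι.isOpenEmbedding.injective (by
    rw [← Scheme.Hom.comp_apply, hp', hpt]; rfl)
  let e : pullback G'.hom p' ≅ pullback G.hom (Red.geomPt s) :=
    pullbackLeftPullbackSndIso G.hom U.ι p' ≪≫ pullback.congrHom rfl hp'
  have hN' : (irreducibleComponents ↥H.left).encard ≤ N := by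
    refine le_of_eq_of_le ?_ (hN u)
    exact (GISpreadLib.sameComp_of_iso e).1.symm.trans
      ((GISpreadLib.sameComp_geomFiber G'.hom _ p' u hp'u).1.trans
        (GISpreadLib.sameComp_geomFiber G'.hom _ (Red.geomPt u) u (geomPt_apply u)).1.symm)
  have hd' : topologicalKrullDim ↥H.left ≤ (d : WithBot ℕ∞) := by
    let e' : pullback (G'.hom ≫ φ.hom) (p' ≫ φ.hom) ≅ pullback G.hom (Red.geomPt s) :=
      (asIso (pullback.mapDesc G'.hom p' φ.hom)).symm ≪≫ e
    exact e'.hom.homeomorph.isHomeomorph.topologicalKrullDim_eq.symm.trans_le (hd _ (p' ≫ φ.hom))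
  have hd1 := mem_dSet_iff G (Red.geomPt s) (d + N)
  have hc1 := mem_cSet_iff G (Red.geomPt s) (d + N)
  rw [hpt] at hd1 hc1
  constructor
  · rw [hd1]
    constructor
    · rintro ⟨n, hn⟩
      exact derivedSeries_pts_bound H hN' hd' (hn _)
    · intro h
      exact ⟨d + N, (derivedSeries_iff_pts H (𝟙 _) (d + N)).2 h⟩
  · rw [hc1]
    constructor
    · rintro ⟨n, hn⟩
      exact lcs_pts_bound H hN' hd' ((upper_iff_lower n).1 (hn _))
    · intro h
      exact ⟨d + N, fun X => (upper_iff_lower _).2 ((lcs_iff_pts H (𝟙 _) (d + N)).2 h X)⟩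

/-- The loci are closed when the group is smooth and separated. -/
theorem isClosed_setOf_unitSet {P : Over S} [UniversallyOpen P.hom] [IsSeparated G.hom] (w : P ⟶ G) :
    IsClosed {s : S | P.hom.base ⁻¹' {s} ⊆ unitSet w} := by
  haveI : IsClosedImmersion η[G].left := by
    haveI : IsClosedImmersion (η[G].left ≫ G.hom) := by
      rw [Over.w η[G]]; exact inferInstanceAs (IsClosedImmersion (𝟙 S))
    exact IsClosedImmersion.of_comp η[G].left G.hom
  have e : {s : S | P.hom.base ⁻¹' {s} ⊆ unitSet w} = (P.hom.base '' (unitSet w)ᶜ)ᶜ := by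
    ext s
    simp only [Set.mem_setOf_eq, Set.mem_compl_iff, Set.mem_image, not_exists, not_and, Set.subset_def,
      Set.mem_preimage, Set.mem_singleton_iff]
    exact ⟨fun h x hx e => hx (h x e), fun h x e => by_contra fun hx => h x hx e⟩
  rw [e]
  exact (P.hom.isOpenMap _ ((η[G].left.isClosedEmbedding.isClosed_range.preimage
    w.left.continuous).isOpen_compl)).isClosed_compl

/-- The loci are constructible for groups of finite presentation. -/
theorem isLocallyConstructible_setOf_unitSet [LocallyOfFinitePresentation G.hom] [QuasiSeparated G.hom]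
    {P : Over S} [LocallyOfFinitePresentation P.hom] [QuasiCompact P.hom] (w : P ⟶ G) :
    IsLocallyConstructible {s : S | P.hom.base ⁻¹' {s} ⊆ unitSet w} := by
  have e : {s : S | P.hom.base ⁻¹' {s} ⊆ unitSet w} = (P.hom.base '' (unitSet w)ᶜ)ᶜ := by
    ext s
    simp only [Set.mem_setOf_eq, Set.mem_compl_iff, Set.mem_image, not_exists, not_and, Set.subset_def,
      Set.mem_preimage, Set.mem_singleton_iff]
    exact ⟨fun h x hx e => hx (h x e), fun h x e => by_contra fun hx => h x hx e⟩
  rw [e]
  haveI : LocallyOfFinitePresentation η[G].left := by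
    haveI : LocallyOfFinitePresentation (η[G].left ≫ G.hom) := by
      rw [Over.w η[G]]; exact inferInstanceAs (LocallyOfFinitePresentation (𝟙 S))
    exact AlgSpLib.lfp_of_comp_lft η[G].left G.hom
  haveI : QuasiCompact η[G].left := by
    haveI : QuasiCompact (η[G].left ≫ G.hom) := by
      rw [Over.w η[G]]; exact inferInstanceAs (QuasiCompact (𝟙 S))
    exact QuasiCompact.of_comp η[G].left G.hom
  have h1 : IsLocallyConstructible (Set.range η[G].left.base) := by
    rw [← Set.image_univ]
    exact η[G].left.isLocallyConstructible_image IsLocallyConstructible.univ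
  exact RichLib.FibreRange.isLocallyConstructible_compl (P.hom.isLocallyConstructible_image
    (RichLib.FibreRange.isLocallyConstructible_compl (ConsLib.isLocallyConstructible_preimage w.left h1)))

omit [LocallyOfFiniteType G.hom] in
/-- The geometric fibre of a smooth fibre is smooth. -/
theorem smooth_geomFibre (s : S) (h : Smooth (G.hom.fiberToSpecResidueField s)) :
    Smooth (Red.geomFibre s G).hom := by
  let a : Spec (CommRingCat.of (AlgebraicClosure (S.residueField s))) ⟶ Spec (S.residueField s) :=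
    Spec.map (CommRingCat.ofHom (algebraMap (S.residueField s) (AlgebraicClosure (S.residueField s))))
  have h1 : Smooth (pullback.snd (pullback.snd G.hom (S.fromSpecResidueField s)) a) :=
    MorphismProperty.pullback_snd _ a h
  rw [← pullbackLeftPullbackSndIso_hom_snd] at h1
  exact (MorphismProperty.cancel_left_of_respectsIso @Smooth _ _).1 h1

/-- A set which agrees on each affine open with a closed set is closed. -/
theorem isClosed_of_bound (P : S → Prop) (Z : ℕ → Set S)
    (hb : ∀ U : S.Opens, IsAffineOpen U → ∃ B, ∀ s ∈ U, P s ↔ s ∈ Z B) (hZ : ∀ n, IsClosed (Z n)) :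
    IsClosed {s | P s} := by
  rw [← isOpen_compl_iff, isOpen_iff_forall_mem_open]
  intro x hx
  obtain ⟨U, hU, hxU⟩ := GISpreadLib.exists_affine_mem x
  obtain ⟨B, hB⟩ := hb U hU
  exact ⟨(U : Set S) ∩ (Z B)ᶜ, fun y hy hy' => hy.2 ((hB y hy.1).1 hy'), U.isOpen.inter (hZ B).isOpen_compl,
    hxU, fun h => hx ((hB x hxU).2 h)⟩

/-- A set which agrees on each affine open with a locally constructible set is locally constructible. -/
theorem isLocallyConstructible_of_bound (P : S → Prop) (Z : ℕ → Set S)
    (hb : ∀ U : S.Opens, IsAffineOpen U → ∃ B, ∀ s ∈ U, P s ↔ s ∈ Z B) (hZ : ∀ n, IsLocallyConstructible (Z n)) :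
    IsLocallyConstructible {s | P s} := by
  refine GISpreadLib.isLocallyConstructible_of_cover fun x => ?_
  obtain ⟨U, hU, hxU⟩ := GISpreadLib.exists_affine_mem x
  obtain ⟨B, hB⟩ := hb U hU
  refine ⟨U, hxU, ?_⟩
  have e : U.ι.base ⁻¹' {s | P s} = U.ι.base ⁻¹' Z B := Set.ext fun y => hB _ y.2
  rw [e]
  exact ConsLib.isLocallyConstructible_preimage U.ι (hZ B)

end Groth.Agent.ClassBound
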