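import Mathlib

/-!
The commutator words computing the derived and the lower central series of groups of points of a group object.
-/

set_option autoImplicit false
set_option backward.isDefEq.respectTransparency false

universe v u

noncomputable section

open CategoryTheory MonoidalCategory CartesianMonoidalCategory
open scoped commutatorElement MonObj

namespace Groth.Agent.ClassBound

section Group

variable {Γ : Type v} [Group Γ]

/-- A normal subgroup containing the commutators of generators contains those of generated subgroups. -/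
theorem commutator_closure_le (A B : Set Γ) (K : Subgroup Γ) [K.Normal] (h : ∀ a ∈ A, ∀ b ∈ B, ⁅a, b⁆ ∈ K) :
    ⁅Subgroup.closure A, Subgroup.closure B⁆ ≤ K := by
  let π := QuotientGroup.mk' K
  have h0 : ∀ a ∈ A, ∀ b ∈ B, Commute (π a) (π b) := fun a ha b hb => by
    rw [← commutatorElement_eq_one_iff_commute, ← map_commutatorElement]
    exact (QuotientGroup.eq_one_iff _).2 (h a ha b hb)
  have h1 : ∀ a ∈ A, ∀ y ∈ Subgroup.closure B, Commute (π a) (π y) := fun a ha y hy => by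
    induction hy using Subgroup.closure_induction with
    | mem y hy => exact h0 a ha y hy
    | one => rw [map_one]; exact Commute.one_right _
    | mul y z _ _ iy iz => rw [map_mul]; exact iy.mul_right iz
    | inv y _ iy => rw [map_inv]; exact iy.inv_right
  rw [Subgroup.commutator_le]
  intro x hx y hy
  have h2 : Commute (π x) (π y) := by
    induction hx using Subgroup.closure_induction with
    | mem x hx => exact h1 x hx y hy
    | one => rw [map_one]; exact Commute.one_left _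
    | mul x z _ _ ix iz => rw [map_mul]; exact ix.mul_left iz
    | inv x _ ix => rw [map_inv]; exact ix.inv_left
  rw [← QuotientGroup.eq_one_iff]
  show π ⁅x, y⁆ = 1
  rw [map_commutatorElement, commutatorElement_eq_one_iff_commute]
  exact h2

theorem closure_normal (A : Set Γ) (hA : ∀ a ∈ A, ∀ g : Γ, g * a * g⁻¹ ∈ A) : (Subgroup.closure A).Normal :=
  ⟨fun x hx g => by
    induction hx using Subgroup.closure_induction with
    | mem x hx => exact Subgroup.subset_closure (hA x hx g)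
    | one => simp [one_mem]
    | mul x y _ _ ix iy => rw [show g * (x * y) * g⁻¹ = (g * x * g⁻¹) * (g * y * g⁻¹) by group]; exact mul_mem ix iy
    | inv x _ ix => rw [show g * x⁻¹ * g⁻¹ = (g * x * g⁻¹)⁻¹ by group]; exact inv_mem ix⟩

theorem conj_commutator (g a b : Γ) : g * ⁅a, b⁆ * g⁻¹ = ⁅g * a * g⁻¹, g * b * g⁻¹⁆ := by
  simp only [commutatorElement_def]; group

end Group

variable {C : Type u} [Category.{v} C] [CartesianMonoidalCategory C]

/-- The source of the `n`-th derived word. -/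
def DP (G : C) : ℕ → C
  | 0 => G
  | n + 1 => DP G n ⊗ DP G n

/-- The `n`-th derived word. -/
def dw (G : C) [GrpObj G] : (n : ℕ) → (DP G n ⟶ G)
  | 0 => 𝟙 G
  | n + 1 => (⁅fst (DP G n) (DP G n) ≫ dw G n, snd (DP G n) (DP G n) ≫ dw G n⁆ : DP G n ⊗ DP G n ⟶ G)

/-- The source of the `n`-th lower central word. -/
def CP (G : C) : ℕ → C
  | 0 => G
  | n + 1 => CP G n ⊗ G

/-- The `n`-th lower central word. -/
def cw (G : C) [GrpObj G] : (n : ℕ) → (CP G n ⟶ G)
  | 0 => 𝟙 G
  | n + 1 => (⁅fst (CP G n) G ≫ cw G n, snd (CP G n) G⁆ : CP G n ⊗ G ⟶ G)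

variable {G : C} [GrpObj G]

theorem comp_comm {X Y : C} (x : X ⟶ Y) (a b : Y ⟶ G) : x ≫ ⁅a, b⁆ = ⁅x ≫ a, x ≫ b⁆ := by
  simp only [commutatorElement_def, MonObj.comp_mul, GrpObj.comp_inv]

theorem comp_dw_succ {X : C} (n : ℕ) (x : X ⟶ DP G n ⊗ DP G n) :
    x ≫ dw G (n + 1) =
      ⁅(x ≫ fst (DP G n) (DP G n)) ≫ dw G n, (x ≫ snd (DP G n) (DP G n)) ≫ dw G n⁆ := by
  rw [Category.assoc, Category.assoc]
  exact comp_comm x _ _

theorem comp_cw_succ {X : C} (n : ℕ) (x : X ⟶ CP G n ⊗ G) :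
    x ≫ cw G (n + 1) = ⁅(x ≫ fst (CP G n) G) ≫ cw G n, x ≫ snd (CP G n) G⁆ := by
  rw [Category.assoc]
  exact comp_comm x _ _

theorem dw_mem {X : C} (n : ℕ) (x : X ⟶ DP G n) : x ≫ dw G n ∈ derivedSeries (X ⟶ G) n := by
  induction n with
  | zero => exact Subgroup.mem_top _
  | succ n ih =>
    rw [derivedSeries_succ]
    rw [comp_dw_succ]
    exact Subgroup.commutator_mem_commutator (ih _) (ih _)

theorem dw_conj {X : C} (n : ℕ) (x : X ⟶ DP G n) (g : X ⟶ G) :
    ∃ y : X ⟶ DP G n, g * (x ≫ dw G n) * g⁻¹ = y ≫ dw G n := by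
  induction n with
  | zero => exact ⟨(g * (x ≫ dw G 0) * g⁻¹ : X ⟶ G), (Category.comp_id _).symm⟩
  | succ n ih =>
    obtain ⟨y, hy⟩ := ih (x ≫ fst (DP G n) (DP G n))
    obtain ⟨z, hz⟩ := ih (x ≫ snd (DP G n) (DP G n))
    exact ⟨lift y z, by rw [comp_dw_succ, comp_dw_succ, lift_fst, lift_snd, ← hy, ← hz, conj_commutator]⟩

theorem derivedSeries_le_closure (X : C) (n : ℕ) :
    derivedSeries (X ⟶ G) n ≤ Subgroup.closure (Set.range fun x : X ⟶ DP G n => x ≫ dw G n) := by
  induction n with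
  | zero => exact fun g _ => Subgroup.subset_closure ⟨g, Category.comp_id g⟩
  | succ n ih =>
    haveI := closure_normal (Set.range fun x : X ⟶ DP G (n + 1) => x ≫ dw G (n + 1)) (by
      rintro _ ⟨x, rfl⟩ g
      obtain ⟨y, hy⟩ := dw_conj (n + 1) x g
      exact ⟨y, hy.symm⟩)
    rw [derivedSeries_succ]
    refine (Subgroup.commutator_mono ih ih).trans (commutator_closure_le _ _ _ ?_)
    rintro _ ⟨a, rfl⟩ _ ⟨b, rfl⟩
    refine Subgroup.subset_closure ⟨lift a b, ?_⟩
    show lift a b ≫ dw G (n + 1) = _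
    rw [comp_dw_succ, lift_fst, lift_snd]

theorem derivedSeries_eq_bot_iff (X : C) (n : ℕ) :
    derivedSeries (X ⟶ G) n = ⊥ ↔ ∀ x : X ⟶ DP G n, x ≫ dw G n = 1 := by
  constructor
  · intro h x
    have := dw_mem n x
    rwa [h, Subgroup.mem_bot] at this
  · intro h
    refine le_bot_iff.1 ((derivedSeries_le_closure X n).trans ?_)
    rw [Subgroup.closure_le]
    rintro _ ⟨x, rfl⟩
    exact h x

theorem forall_derivedSeries_iff (n : ℕ) :
    (∀ X : C, derivedSeries (X ⟶ G) n = ⊥) ↔ dw G n = 1 := by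
  refine ⟨fun h => ?_, fun h X => (derivedSeries_eq_bot_iff X n).2 fun x => by rw [h, MonObj.comp_one]⟩
  simpa using (derivedSeries_eq_bot_iff (DP G n) n).1 (h _) (𝟙 _)

theorem cw_mem {X : C} (n : ℕ) (x : X ⟶ CP G n) : x ≫ cw G n ∈ (⊤ : Subgroup (X ⟶ G)).lowerCentralSeries n := by
  induction n with
  | zero => exact Subgroup.mem_top _
  | succ n ih =>
    rw [Subgroup.lowerCentralSeries_succ]
    rw [comp_cw_succ]
    exact Subgroup.commutator_mem_commutator (ih _) (Subgroup.mem_top _)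

theorem cw_conj {X : C} (n : ℕ) (x : X ⟶ CP G n) (g : X ⟶ G) :
    ∃ y : X ⟶ CP G n, g * (x ≫ cw G n) * g⁻¹ = y ≫ cw G n := by
  induction n with
  | zero => exact ⟨(g * (x ≫ cw G 0) * g⁻¹ : X ⟶ G), (Category.comp_id _).symm⟩
  | succ n ih =>
    obtain ⟨y, hy⟩ := ih (x ≫ fst (CP G n) G)
    refine ⟨lift y ((g * (x ≫ snd (CP G n) G) * g⁻¹ : X ⟶ G)), ?_⟩
    rw [comp_cw_succ, comp_cw_succ, lift_fst, lift_snd, ← hy, conj_commutator]

theorem lcs_le_closure (X : C) (n : ℕ) :
    (⊤ : Subgroup (X ⟶ G)).lowerCentralSeries n ≤ Subgroup.closure (Set.range fun x : X ⟶ CP G n => x ≫ cw G n) := by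
  induction n with
  | zero => exact fun g _ => Subgroup.subset_closure ⟨g, Category.comp_id g⟩
  | succ n ih =>
    haveI := closure_normal (Set.range fun x : X ⟶ CP G (n + 1) => x ≫ cw G (n + 1)) (by
      rintro _ ⟨x, rfl⟩ g
      obtain ⟨y, hy⟩ := cw_conj (n + 1) x g
      exact ⟨y, hy.symm⟩)
    rw [Subgroup.lowerCentralSeries_succ]
    refine (Subgroup.commutator_mono ih (le_of_eq Subgroup.closure_univ.symm)).trans (commutator_closure_le _ _ _ ?_)
    rintro _ ⟨a, rfl⟩ b -
    refine Subgroup.subset_closure ⟨lift a b, ?_⟩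
    show lift a b ≫ cw G (n + 1) = _
    rw [comp_cw_succ, lift_fst, lift_snd]

theorem lcs_eq_bot_iff (X : C) (n : ℕ) :
    (⊤ : Subgroup (X ⟶ G)).lowerCentralSeries n = ⊥ ↔ ∀ x : X ⟶ CP G n, x ≫ cw G n = 1 := by
  constructor
  · intro h x
    have := cw_mem n x
    rwa [h, Subgroup.mem_bot] at this
  · intro h
    refine le_bot_iff.1 ((lcs_le_closure X n).trans ?_)
    rw [Subgroup.closure_le]
    rintro _ ⟨x, rfl⟩
    exact h x

theorem forall_lcs_iff (n : ℕ) :
    (∀ X : C, (⊤ : Subgroup (X ⟶ G)).lowerCentralSeries n = ⊥) ↔ cw G n = 1 := by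
  refine ⟨fun h => ?_, fun h X => (lcs_eq_bot_iff X n).2 fun x => by rw [h, MonObj.comp_one]⟩
  simpa using (lcs_eq_bot_iff (CP G n) n).1 (h _) (𝟙 _)

end Groth.Agent.ClassBound
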