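import Groth.Agent.ClassBoundLib.Top
import Groth.Agent.ClassBoundLib.Word
import Groth.Agent.AlgSpLib.ReducedSmooth
import Groth.Agent.GrpFieldLib.Comps
import Groth.Prelude.Def_Red2
import Groth.Prelude.Def_AGF

/-!
Where a morphism to a group is the unit; groups of rational points over an algebraically closed field.
-/

set_option autoImplicit false
set_option backward.isDefEq.respectTransparency false
set_option maxHeartbeats 1000000

noncomputable section

universe u

open CategoryTheory CategoryTheory.Limits MonoidalCategory CartesianMonoidalCategory AlgebraicGeometry Topology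
open scoped commutatorElement MonObj

namespace Groth.Agent.ClassBound

attribute [-instance] CategoryTheory.Hom.commGroup

variable {S : Scheme.{u}} {G : Over S} [GrpObj G]

/-- The points where `w` takes the value of the unit section. -/
def unitSet {P : Over S} (w : P ⟶ G) : Set P.left := w.left.base ⁻¹' Set.range η[G].left.base

theorem one_left (T : Over S) : (1 : T ⟶ G).left = T.hom ≫ η[G].left := by
  rw [Hom.one_def, Over.comp_left]
  congr 1

instance isImmersion_unit : IsImmersion η[G].left := by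
  haveI : IsImmersion (η[G].left ≫ G.hom) := by
    rw [Over.w η[G]]
    exact inferInstanceAs (IsImmersion (𝟙 S))
  exact IsImmersion.of_comp η[G].left G.hom

/-- A morphism from a reduced scheme with values on the unit section is the unit. -/
theorem eq_one_of_range {T : Over S} [IsReduced T.left] (g : T ⟶ G)
    (h : ∀ x, g.left.base x ∈ Set.range η[G].left.base) : g = 1 := by
  let a := pullback.fst g.left η[G].left
  haveI hs : Surjective a := ⟨fun x => by
    obtain ⟨y, hy⟩ := h x
    obtain ⟨z, hz, -⟩ := Scheme.Pullback.exists_preimage_pullback (f := g.left) (g := η[G].left) x y hy.symm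
    exact ⟨z, hz⟩⟩
  haveI : IsClosedImmersion a := IsClosedImmersion.of_isPreimmersion a (by
    rw [hs.surj.range_eq]; exact isClosed_univ)
  haveI : IsIso a := isIso_of_isClosedImmersion_of_surjective a
  have hb : g.left = (inv a ≫ pullback.snd g.left η[G].left) ≫ η[G].left := by
    rw [Category.assoc, ← pullback.condition, IsIso.inv_hom_id_assoc]
  refine Over.OverMorphism.ext ?_
  rw [one_left]
  have hl : T.hom = inv a ≫ pullback.snd g.left η[G].left := by
    have h1 := congrArg (· ≫ G.hom) hb
    simp only [Category.assoc, Over.w] at h1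
    rw [h1]
    simp
  rw [hl]
  exact hb

theorem eq_one_of_unitSet {P : Over S} [IsReduced P.left] (w : P ⟶ G) (h : unitSet w = Set.univ) : w = 1 :=
  eq_one_of_range w fun x => h.ge (Set.mem_univ x)

theorem range_of_one (T : Over S) (x : T.left) : (1 : T ⟶ G).left.base x ∈ Set.range η[G].left.base :=
  ⟨T.hom.base x, by rw [one_left]; rfl⟩

theorem isLocallyClosed_unitSet {P : Over S} (w : P ⟶ G) : IsLocallyClosed (unitSet w) :=
  η[G].left.isLocallyClosed_range.preimage w.left.continuous

/-- Over a geometric point, `w` is the unit on all rational points exactly when the fibre lies in the unit set. -/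
theorem forall_comp_eq_one_iff {K : Type u} [Field K] [IsAlgClosed K] (p : Spec (CommRingCat.of K) ⟶ S)
    {P : Over S} [LocallyOfFiniteType P.hom] (w : P ⟶ G) :
    (∀ x : Over.mk p ⟶ P, x ≫ w = 1) ↔ P.hom.base ⁻¹' {p.base (IsLocalRing.closedPoint K)} ⊆ unitSet w := by
  constructor
  · intro h z hz
    by_contra hzw
    let F := pullback P.hom p
    let f : F ⟶ Spec (CommRingCat.of K) := pullback.snd P.hom p
    let b : F ⟶ P.left := pullback.fst P.hom p
    haveI : JacobsonSpace ↥F := LocallyOfFiniteType.jacobsonSpace f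
    obtain ⟨z₁, hz₁, -⟩ := Scheme.Pullback.exists_preimage_pullback (f := P.hom) (g := p) z
      (IsLocalRing.closedPoint K) hz
    obtain ⟨U, C, hU, hC, hUC⟩ := (isLocallyClosed_unitSet w).preimage b.continuous
    have hmem : z₁ ∉ b.base ⁻¹' unitSet w := fun hm => hzw (hz₁ ▸ hm)
    have hne : ∃ x ∈ closedPoints ↥F, x ∉ b.base ⁻¹' unitSet w := by
      rw [hUC] at hmem ⊢
      rcases not_and_or.1 hmem with h' | h'
      · obtain ⟨x, hx, hxc⟩ := nonempty_inter_closedPoints (Z := Uᶜ) ⟨z₁, h'⟩ hU.isClosed_compl.isLocallyClosed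
        exact ⟨x, hxc, fun hm => hx hm.1⟩
      · obtain ⟨x, hx, hxc⟩ := nonempty_inter_closedPoints (Z := Cᶜ) ⟨z₁, h'⟩ hC.isOpen_compl.isLocallyClosed
        exact ⟨x, hxc, fun hm => hx hm.2⟩
    obtain ⟨x, hxc, hxw⟩ := hne
    let c : Spec (CommRingCat.of K) ⟶ F := pointOfClosedPoint f x hxc
    let y : Over.mk p ⟶ P := Over.homMk (c ≫ b) (by
      show (c ≫ pullback.fst P.hom p) ≫ P.hom = p
      rw [Category.assoc, pullback.condition, ← Category.assoc]
      exact (congrArg (· ≫ p) (pointOfClosedPoint_comp f x hxc)).trans (Category.id_comp p))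
    apply hxw
    show w.left.base (b.base x) ∈ Set.range η[G].left.base
    have e : (y ≫ w).left.base (IsLocalRing.closedPoint K) = w.left.base (b.base x) := by
      show w.left.base (b.base (c.base (IsLocalRing.closedPoint K))) = _
      rw [show c.base (IsLocalRing.closedPoint K) = x from pointOfClosedPoint_apply f x hxc _]
    rw [← e, h y]
    exact range_of_one _ _
  · intro h x
    haveI : IsReduced (Over.mk p).left := inferInstanceAs (IsReduced (Spec (CommRingCat.of K)))
    refine eq_one_of_range _ fun t => ?_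
    haveI : Subsingleton ↥(Over.mk p).left := inferInstanceAs (Subsingleton (PrimeSpectrum K))
    have ht : t = IsLocalRing.closedPoint K := Subsingleton.elim _ _
    subst ht
    refine h ?_
    show P.hom.base (x.left.base _) = p.base _
    rw [← Scheme.Hom.comp_apply, Over.w x]
    rfl

section Field

variable {k : Type u} [Field k] [IsAlgClosed k] (H : Over (Spec (CommRingCat.of k))) [GrpObj H]
  [LocallyOfFiniteType H.hom]

/-- The point of a rational point. -/
def kpt (x : 𝟙_ (Over (Spec (CommRingCat.of k))) ⟶ H) : H.left := x.left.base (IsLocalRing.closedPoint k)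

instance topPts : TopologicalSpace (𝟙_ (Over (Spec (CommRingCat.of k))) ⟶ H) :=
  TopologicalSpace.induced (kpt H) inferInstance

theorem isInducing_kpt : IsInducing (kpt H) := ⟨rfl⟩

theorem kpt_injective : Function.Injective (kpt H) := fun x y e =>
  Over.OverMorphism.ext (ext_of_apply_closedPoint_eq H.hom (Over.w x) (Over.w y) e)

theorem kpt_mem_closedPoints (x : 𝟙_ (Over (Spec (CommRingCat.of k))) ⟶ H) : kpt H x ∈ closedPoints H.left :=
  ((pointEquivClosedPoint H.hom) ⟨x.left, Over.w x⟩).2

theorem exists_kpt {z : H.left} (hz : z ∈ closedPoints H.left) : ∃ x, kpt H x = z :=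
  ⟨Over.homMk (pointOfClosedPoint H.hom z hz) (pointOfClosedPoint_comp H.hom z hz),
    pointOfClosedPoint_apply H.hom z hz _⟩

instance : T1Space (𝟙_ (Over (Spec (CommRingCat.of k))) ⟶ H) := ⟨fun x => by
  have e : ({x} : Set _) = kpt H ⁻¹' {kpt H x} := Set.ext fun y => ⟨fun hy => congrArg (kpt H) hy, fun hy => kpt_injective H hy⟩
  rw [e]
  exact IsClosed.preimage (isInducing_kpt H).continuous (kpt_mem_closedPoints H x)⟩

theorem continuous_comp (φ : H ⟶ H) :
    Continuous fun x : 𝟙_ (Over (Spec (CommRingCat.of k))) ⟶ H => x ≫ φ :=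
  (isInducing_kpt H).continuous_iff.2 (φ.left.continuous.comp (isInducing_kpt H).continuous)

theorem isSepCont : IsSepCont (𝟙_ (Over (Spec (CommRingCat.of k))) ⟶ H) := by
  have key : ∀ (a : 𝟙_ (Over (Spec (CommRingCat.of k))) ⟶ H) (x : 𝟙_ (Over (Spec (CommRingCat.of k))) ⟶ H),
      x ≫ (toUnit H ≫ a) = a := fun a x => by
    rw [← Category.assoc, toUnit_unique (x ≫ toUnit H) (𝟙 _), Category.id_comp]
  refine ⟨fun a => ?_, fun a => ?_, ?_, fun a => ?_⟩
  · have e : (fun x => a * x) = fun x : 𝟙_ _ ⟶ H => x ≫ ((toUnit H ≫ a) * 𝟙 H) := funext fun x => by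
      rw [MonObj.comp_mul, key, Category.comp_id]
    rw [e]; exact continuous_comp H _
  · have e : (fun x => x * a) = fun x : 𝟙_ _ ⟶ H => x ≫ (𝟙 H * (toUnit H ≫ a)) := funext fun x => by
      rw [MonObj.comp_mul, key, Category.comp_id]
    rw [e]; exact continuous_comp H _
  · have e : (fun x => x⁻¹) = fun x : 𝟙_ _ ⟶ H => x ≫ (𝟙 H)⁻¹ := funext fun x => by
      rw [GrpObj.comp_inv, Category.comp_id]
    rw [e]; exact continuous_comp H _
  · have e : (fun x => ⁅x, a⁆) = fun x : 𝟙_ _ ⟶ H => x ≫ ⁅𝟙 H, toUnit H ≫ a⁆ := funext fun x => by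
      rw [comp_comm, key, Category.comp_id]
    rw [e]; exact continuous_comp H _

/-- The traces of the irreducible components on the rational points. -/
theorem exists_cover {N : ℕ} (hN : (irreducibleComponents H.left).encard ≤ N) :
    ∃ (J : Type u) (_ : Fintype J) (Z : J → Set (𝟙_ (Over (Spec (CommRingCat.of k))) ⟶ H)),
      Fintype.card J ≤ N ∧ (∀ i, IsClosed (Z i) ∧ IsPreirreducible (Z i)) ∧ ∀ x, ∃ i, x ∈ Z i := by
  haveI : JacobsonSpace H.left := LocallyOfFiniteType.jacobsonSpace H.hom
  have hfin : (irreducibleComponents H.left).Finite := Set.finite_of_encard_le_coe hN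
  letI := hfin.fintype
  refine ⟨irreducibleComponents H.left, inferInstance, fun C => kpt H ⁻¹' C.1, ?_, fun C => ⟨?_, ?_⟩, fun x => ?_⟩
  · rw [← Nat.card_eq_fintype_card, Nat.card_coe_set_eq]
    have := hfin.cast_ncard_eq
    exact_mod_cast this.le.trans hN
  · exact (isClosed_of_mem_irreducibleComponents C.1 C.2).preimage (isInducing_kpt H).continuous
  · rintro U V hU hV ⟨x, hxC, hxU⟩ ⟨y, hyC, hyV⟩
    obtain ⟨U', hU', rfl⟩ := (isInducing_kpt H).isOpen_iff.1 hU
    obtain ⟨V', hV', rfl⟩ := (isInducing_kpt H).isOpen_iff.1 hV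
    obtain ⟨z, ⟨hzC, hzU, hzV⟩⟩ := C.2.1.isPreirreducible U' V' hU' hV' ⟨_, hxC, hxU⟩ ⟨_, hyC, hyV⟩
    obtain ⟨z', hz', hzc⟩ := nonempty_inter_closedPoints (Z := C.1 ∩ (U' ∩ V')) ⟨z, hzC, hzU, hzV⟩
      ((isClosed_of_mem_irreducibleComponents C.1 C.2).isLocallyClosed.inter (hU'.inter hV').isLocallyClosed)
    obtain ⟨w, rfl⟩ := exists_kpt H hzc
    exact ⟨w, hz'.1, hz'.2.1, hz'.2.2⟩
  · exact ⟨⟨_, irreducibleComponent_mem_irreducibleComponents (kpt H x)⟩, mem_irreducibleComponent⟩

theorem krullDim_pts_le {d : ℕ} (hd : topologicalKrullDim H.left ≤ (d : WithBot ℕ∞)) :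
    topologicalKrullDim (𝟙_ (Over (Spec (CommRingCat.of k))) ⟶ H) ≤ (d : WithBot ℕ∞) :=
  (isInducing_kpt H).topologicalKrullDim_le.trans hd

/-- Solvability of bounded class of the group of rational points. -/
theorem derivedSeries_pts_bound {N d : ℕ} (hN : (irreducibleComponents H.left).encard ≤ N)
    (hd : topologicalKrullDim H.left ≤ (d : WithBot ℕ∞)) {n : ℕ}
    (hn : derivedSeries (𝟙_ (Over (Spec (CommRingCat.of k))) ⟶ H) n = ⊥) :
    derivedSeries (𝟙_ (Over (Spec (CommRingCat.of k))) ⟶ H) (d + N) = ⊥ := by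
  obtain ⟨J, hι, Z, hcard, hZ, hcov⟩ := exists_cover H hN
  exact derivedSeries_bound (isSepCont H) hcard Z hZ hcov (krullDim_pts_le H hd) hn

/-- Nilpotency of bounded class of the group of rational points. -/
theorem lcs_pts_bound {N d : ℕ} (hN : (irreducibleComponents H.left).encard ≤ N)
    (hd : topologicalKrullDim H.left ≤ (d : WithBot ℕ∞)) {n : ℕ}
    (hn : (⊤ : Subgroup (𝟙_ (Over (Spec (CommRingCat.of k))) ⟶ H)).lowerCentralSeries n = ⊥) :
    (⊤ : Subgroup (𝟙_ (Over (Spec (CommRingCat.of k))) ⟶ H)).lowerCentralSeries (d + N) = ⊥ := by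
  obtain ⟨J, hι, Z, hcard, hZ, hcov⟩ := exists_cover H hN
  exact lcs_bound (isSepCont H) hcard Z hZ hcov (krullDim_pts_le H hd) hn

end Field

/-- Isomorphic groups have the same derived length. -/
theorem derivedSeries_congr {A B : Type u} [Group A] [Group B] (e : A ≃* B) (n : ℕ) :
    derivedSeries A n = ⊥ ↔ derivedSeries B n = ⊥ := by
  rw [← map_derivedSeries_eq (f := e.toMonoidHom) e.surjective n,
    Subgroup.map_eq_bot_iff_of_injective _ (show Function.Injective e.toMonoidHom from e.injective)]

theorem lcs_congr {A B : Type u} [Group A] [Group B] (e : A ≃* B) (n : ℕ) :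
    (⊤ : Subgroup A).lowerCentralSeries n = ⊥ ↔ (⊤ : Subgroup B).lowerCentralSeries n = ⊥ := by
  rw [← Subgroup.map_top_of_surjective e.toMonoidHom e.surjective, ← Subgroup.map_lowerCentralSeries,
    Subgroup.map_eq_bot_iff_of_injective _ (show Function.Injective e.toMonoidHom from e.injective)]

theorem upper_iff_lower {A : Type u} [Group A] (n : ℕ) :
    Subgroup.upperCentralSeries A n = ⊤ ↔ (⊤ : Subgroup A).lowerCentralSeries n = ⊥ :=
  Subgroup.lowerCentralSeries_eq_bot_iff_upperCentralSeries_eq_top.symm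

end Groth.Agent.ClassBound
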