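import Mathlib

/-!
A bound on the derived length and the nilpotency class of a group with a Noetherian topology in which translations,
inversion and commutators are separately continuous: number of irreducible components plus dimension.
-/

set_option autoImplicit false

universe u

open Set Pointwise
open scoped commutatorElement

namespace Groth.Agent.ClassBound

/-- Separate continuity of the operations. -/
structure IsSepCont (Γ : Type u) [Group Γ] [TopologicalSpace Γ] : Prop where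
  left : ∀ a : Γ, Continuous (a * ·)
  right : ∀ a : Γ, Continuous (· * a)
  inv : Continuous (·⁻¹ : Γ → Γ)
  comm : ∀ a : Γ, Continuous (fun x : Γ => ⁅x, a⁆)

variable {Γ : Type u} [Group Γ] [TopologicalSpace Γ]

theorem IsSepCont.comm' (h : IsSepCont Γ) (a : Γ) : Continuous (fun y : Γ => ⁅a, y⁆) := by
  have e : (fun y : Γ => ⁅a, y⁆) = (fun z : Γ => z⁻¹) ∘ fun y => ⁅y, a⁆ :=
    funext fun y => (commutatorElement_inv y a).symm
  rw [e]
  exact h.inv.comp (h.comm a)

/-- The closure of a subgroup. -/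
def IsSepCont.cl (h : IsSepCont Γ) (H : Subgroup Γ) : Subgroup Γ where
  carrier := closure H
  one_mem' := subset_closure H.one_mem
  inv_mem' := fun {x} hx => map_mem_closure h.inv hx fun y hy => H.inv_mem hy
  mul_mem' := fun {x y} hx hy => by
    have h2 : ∀ a ∈ H, a * y ∈ closure (H : Set Γ) := fun a ha => map_mem_closure (h.left a) hy fun b hb => H.mul_mem ha hb
    have h3 := map_mem_closure (h.right y) hx (fun a ha => h2 a ha)
    rwa [closure_closure] at h3

variable (h : IsSepCont Γ)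

theorem mem_cl {H : Subgroup Γ} {x : Γ} : x ∈ h.cl H ↔ x ∈ closure (H : Set Γ) := Iff.rfl

theorem coe_cl (H : Subgroup Γ) : (h.cl H : Set Γ) = closure (H : Set Γ) := rfl

theorem le_cl (H : Subgroup Γ) : H ≤ h.cl H := fun _ hx => subset_closure hx

theorem cl_mono {H K : Subgroup Γ} (hle : H ≤ K) : h.cl H ≤ h.cl K := fun _ hx => closure_mono hle hx

theorem cl_eq_of_isClosed {H : Subgroup Γ} (hc : IsClosed (H : Set Γ)) : h.cl H = H :=
  SetLike.coe_injective hc.closure_eq

theorem isClosed_cl (H : Subgroup Γ) : IsClosed (h.cl H : Set Γ) := isClosed_closure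

include h in
theorem commutator_cl_le (K H : Subgroup Γ) : ⁅h.cl K, h.cl H⁆ ≤ h.cl ⁅K, H⁆ := by
  rw [Subgroup.commutator_le]
  intro x hx y hy
  have h1 : ∀ a ∈ K, ⁅a, y⁆ ∈ closure ((⁅K, H⁆ : Subgroup Γ) : Set Γ) := fun a ha =>
    map_mem_closure (h.comm' a) hy fun b hb => Subgroup.commutator_mem_commutator ha hb
  have h2 := map_mem_closure (h.comm y) hx h1
  rwa [closure_closure] at h2

include h in
theorem isPreirreducible_mul {A B : Set Γ} (hA : IsPreirreducible A) (hB : IsPreirreducible B) :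
    IsPreirreducible (A * B) := by
  rintro U V hU hV ⟨_, ⟨a₁, ha₁, b₁, hb₁, rfl⟩, h₁⟩ ⟨_, ⟨a₂, ha₂, b₂, hb₂, rfl⟩, h₂⟩
  obtain ⟨a, ha, hau, hav⟩ := hA _ _ (hU.preimage (h.right b₁)) (hV.preimage (h.right b₂)) ⟨a₁, ha₁, h₁⟩ ⟨a₂, ha₂, h₂⟩
  obtain ⟨b, hb, hbu, hbv⟩ := hB _ _ (hU.preimage (h.left a)) (hV.preimage (h.left a)) ⟨b₁, hb₁, hau⟩ ⟨b₂, hb₂, hav⟩
  exact ⟨a * b, ⟨a, ha, b, hb, rfl⟩, hbu, hbv⟩

include h in
/-- The subgroup generated by irreducible sets through the identity is irreducible. -/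
theorem isPreirreducible_closure (S : Set (Set Γ)) (hS : ∀ A ∈ S, IsPreirreducible A ∧ (1 : Γ) ∈ A) :
    IsPreirreducible (Subgroup.closure (⋃₀ S) : Set Γ) := by
  let P : Γ → Prop := fun x => ∃ A : Set Γ, IsPreirreducible A ∧ (1 : Γ) ∈ A ∧
    A ⊆ (Subgroup.closure (⋃₀ S) : Set Γ) ∧ x ∈ A
  have hall : ∀ x, x ∈ Subgroup.closure (⋃₀ S) → P x := by
    intro x hx
    induction hx using Subgroup.closure_induction with
    | mem x hx =>
      obtain ⟨A, hA, hxA⟩ := hx
      exact ⟨A, (hS A hA).1, (hS A hA).2, fun y hy => Subgroup.subset_closure ⟨A, hA, hy⟩, hxA⟩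
    | one => exact ⟨{1}, subsingleton_singleton.isPreirreducible, rfl, by simp [one_mem], rfl⟩
    | mul x y _ _ hx hy =>
      obtain ⟨A, hA, hA1, hAs, hxA⟩ := hx
      obtain ⟨B, hB, hB1, hBs, hyB⟩ := hy
      refine ⟨A * B, isPreirreducible_mul h hA hB, ⟨1, hA1, 1, hB1, one_mul 1⟩, ?_, ⟨x, hxA, y, hyB, rfl⟩⟩
      rintro _ ⟨a, ha, b, hb, rfl⟩
      exact mul_mem (hAs ha) (hBs hb)
    | inv x _ hx =>
      obtain ⟨A, hA, hA1, hAs, hxA⟩ := hx
      refine ⟨(·⁻¹) '' A, hA.image _ h.inv.continuousOn, ⟨1, hA1, inv_one⟩, ?_, ⟨x, hxA, rfl⟩⟩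
      rintro _ ⟨a, ha, rfl⟩
      exact inv_mem (hAs ha)
  rintro U V hU hV ⟨x, hx, hxU⟩ ⟨y, hy, hyV⟩
  obtain ⟨A, hA, hA1, hAs, hxA⟩ := hall x hx
  obtain ⟨B, hB, hB1, hBs, hyB⟩ := hall y hy
  obtain ⟨z, hz, hzU⟩ := isPreirreducible_mul h hA hB U V hU hV
    ⟨x, ⟨x, hxA, 1, hB1, mul_one x⟩, hxU⟩ ⟨y, ⟨1, hA1, y, hyB, one_mul y⟩, hyV⟩
  obtain ⟨a, ha, b, hb, rfl⟩ := hz
  exact ⟨a * b, mul_mem (hAs ha) (hBs hb), hzU⟩

include h in
theorem isIrreducible_cl_commutator (K H : Subgroup Γ) (hH : IsPreirreducible (H : Set Γ)) :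
    IsIrreducible (h.cl ⁅K, H⁆ : Set Γ) := by
  refine ⟨⟨1, one_mem _⟩, ?_⟩
  rw [coe_cl]
  refine IsPreirreducible.closure ?_
  have e : (⁅K, H⁆ : Subgroup Γ) = Subgroup.closure (⋃₀ ((fun x => (fun y => ⁅x, y⁆) '' (H : Set Γ)) '' (K : Set Γ))) := by
    refine le_antisymm (Subgroup.commutator_le.2 fun x hx y hy => Subgroup.subset_closure
      ⟨_, ⟨x, hx, rfl⟩, ⟨y, hy, rfl⟩⟩) ((Subgroup.closure_le _).2 ?_)
    rintro _ ⟨_, ⟨x, hx, rfl⟩, y, hy, rfl⟩
    exact Subgroup.commutator_mem_commutator hx hy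
  rw [e]
  refine isPreirreducible_closure h _ ?_
  rintro _ ⟨x, hx, rfl⟩
  exact ⟨hH.image _ (h.comm' x).continuousOn, 1, one_mem _, commutatorElement_one_right x⟩

/-- A strictly decreasing chain of closed irreducible sets stops at the dimension. -/
theorem exists_step_eq {d : ℕ} (hd : topologicalKrullDim Γ ≤ (d : WithBot ℕ∞))
    (A : ℕ → TopologicalSpace.IrreducibleCloseds Γ) (hle : ∀ i, A (i + 1) ≤ A i) : ∃ i ≤ d, A (i + 1) = A i := by
  by_contra hcon
  have hlt : ∀ i ≤ d, A (i + 1) < A i := fun i hi => lt_of_le_of_ne (hle i) fun e => hcon ⟨i, hi, e⟩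
  let s : LTSeries (TopologicalSpace.IrreducibleCloseds Γ) :=
    { length := d + 1
      toFun := fun i => A (d + 1 - i.val)
      step := fun i => by
        show A (d + 1 - i.castSucc.val) < A (d + 1 - i.succ.val)
        simp only [Fin.val_castSucc, Fin.val_succ]
        have hi := i.isLt
        have e : d + 1 - i.val = (d + 1 - (i.val + 1)) + 1 := by omega
        rw [e]
        exact hlt _ (by omega) }
  have h1 := (Order.LTSeries.length_le_krullDim s).trans hd
  have h2 : ((d + 1 : ℕ) : WithBot ℕ∞) ≤ (d : ℕ) := h1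
  exact absurd (Nat.cast_le.1 h2) (by omega)

theorem stable_of_eq {α : Type*} (f : α → α) {i : ℕ} {a : α} (e : f^[i + 1] a = f^[i] a) :
    ∀ m, i ≤ m → f^[m] a = f^[i] a := by
  intro m hm
  induction m, hm using Nat.le_induction with
  | base => rfl
  | succ m _ ih => rw [Function.iterate_succ_apply', ih, ← Function.iterate_succ_apply' f]; exact e

/-- In a finite group a decreasing iteration reaching the trivial group reaches it within the order of the group. -/
theorem iterate_card_eq_bot {Q : Type*} [Group Q] [Finite Q] (f : Subgroup Q → Subgroup Q) (hanti : Antitone fun i => f^[i] ⊤)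
    {n : ℕ} (hn : f^[n] ⊤ = ⊥) {N : ℕ} (hN : Nat.card Q ≤ N) : f^[N] ⊤ = (⊥ : Subgroup Q) := by
  have hP : ∀ i, f^[i] ⊤ = (⊥ : Subgroup Q) ∨ Nat.card (f^[i] ⊤ : Subgroup Q) + i ≤ Nat.card Q := by
    intro i
    induction i with
    | zero => exact Or.inr (by simp)
    | succ i ih =>
      rcases ih with ih | ih
      · exact Or.inl (le_bot_iff.1 ((hanti (Nat.le_succ i)).trans_eq ih))
      by_cases e : f^[i + 1] ⊤ = f^[i] ⊤
      · left
        rw [e]
        rcases le_total i n with hin | hin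
        · rw [← stable_of_eq f e n hin, hn]
        · exact le_bot_iff.1 ((hanti hin).trans_eq hn)
      · right
        have hle : f^[i + 1] ⊤ ≤ f^[i] ⊤ := hanti (Nat.le_succ i)
        have hlt : Nat.card (f^[i + 1] ⊤ : Subgroup Q) < Nat.card (f^[i] ⊤ : Subgroup Q) := by
          refine lt_of_le_of_ne (Subgroup.card_le_of_le hle) fun hc => e ?_
          exact Subgroup.eq_of_le_of_card_ge hle hc.ge
        omega
  rcases hP N with e | e
  · exact e
  · exfalso
    have : 0 < Nat.card (f^[N] ⊤ : Subgroup Q) := Nat.card_pos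
    omega

theorem derivedSeries_eq_iterate (Q : Type*) [Group Q] (i : ℕ) :
    derivedSeries Q i = (fun H : Subgroup Q => ⁅H, H⁆)^[i] ⊤ := by
  induction i with
  | zero => rfl
  | succ i ih => rw [derivedSeries_succ, Function.iterate_succ_apply', ← ih]

theorem lcs_eq_iterate (Q : Type*) [Group Q] (i : ℕ) :
    Subgroup.lowerCentralSeries (⊤ : Subgroup Q) i = (fun H : Subgroup Q => ⁅(⊤ : Subgroup Q), H⁆)^[i] ⊤ := by
  induction i with
  | zero => rfl
  | succ i ih => rw [Subgroup.lowerCentralSeries_succ, Function.iterate_succ_apply', ← ih, Subgroup.commutator_comm]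

variable [T1Space Γ]

include h in
theorem cl_bot : h.cl ⊥ = ⊥ := cl_eq_of_isClosed h (by simpa using isClosed_singleton)

include h in
/-- The bound for an operation `op` on subgroups, `op H = ⁅H, H⁆` or `op H = ⁅⊤, H⁆`. -/
theorem iterate_le_bot (op : Subgroup Γ → Subgroup Γ) (hmono : Monotone op)
    (hcl : ∀ H, op (h.cl H) ≤ h.cl (op H))
    (hirr : ∀ H : Subgroup Γ, IsPreirreducible (H : Set Γ) → IsIrreducible (h.cl (op H) : Set Γ))
    (H₀ : Subgroup Γ) [H₀.Normal] (hc₀ : IsClosed (H₀ : Set Γ)) (hirr₀ : IsIrreducible (H₀ : Set Γ))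
    (hnorm : ∀ H : Subgroup Γ, H.Normal → (op H).Normal ∧ op H ≤ H)
    {n N d : ℕ} (hn : op^[n] ⊤ = ⊥) (hN : op^[N] ⊤ ≤ H₀) (hd : topologicalKrullDim Γ ≤ (d : WithBot ℕ∞)) :
    op^[d + N] ⊤ = ⊥ := by
  classical
  let step : Subgroup Γ → Subgroup Γ := fun H => h.cl (op H)
  have hclnormal : ∀ H : Subgroup Γ, H.Normal → (h.cl H).Normal := fun H hH => ⟨fun x hx g => by
    have hc : Continuous fun y : Γ => g * y * g⁻¹ := (h.right g⁻¹).comp (h.left g)
    exact map_mem_closure (f := fun y => g * y * g⁻¹) hc hx fun y hy => hH.conj_mem y hy g⟩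
  have hA : ∀ i, (step^[i] H₀).Normal ∧ IsClosed (step^[i] H₀ : Set Γ) ∧ IsIrreducible (step^[i] H₀ : Set Γ) := by
    intro i
    induction i with
    | zero => exact ⟨inferInstanceAs H₀.Normal, hc₀, hirr₀⟩
    | succ i ih =>
      rw [Function.iterate_succ_apply']
      exact ⟨hclnormal _ (hnorm _ ih.1).1, isClosed_cl h _, hirr _ ih.2.2.isPreirreducible⟩
  have hle : ∀ i, step^[i + 1] H₀ ≤ step^[i] H₀ := fun i => by
    rw [Function.iterate_succ_apply']
    exact (cl_mono h (hnorm _ (hA i).1).2).trans_eq (cl_eq_of_isClosed h (hA i).2.1)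
  obtain ⟨i, hid, he⟩ := exists_step_eq hd
    (fun i => ⟨(step^[i] H₀ : Set Γ), (hA i).2.2, (hA i).2.1⟩) (fun i => hle i)
  have he' : step^[i + 1] H₀ = step^[i] H₀ :=
    SetLike.coe_injective (congrArg (fun T : TopologicalSpace.IrreducibleCloseds Γ => (T : Set Γ)) he)
  have hdense : ∀ j, step^[i] H₀ ≤ h.cl (op^[j] ⊤) := by
    intro j
    induction j with
    | zero => exact le_trans le_top (le_cl h _)
    | succ j ih =>
      conv_lhs => rw [← he', Function.iterate_succ_apply']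
      rw [Function.iterate_succ_apply']
      refine (cl_mono h ((hmono ih).trans (hcl _))).trans ?_
      exact (cl_eq_of_isClosed h (isClosed_cl h _)).le
  have hi : step^[i] H₀ = ⊥ := le_bot_iff.1 ((hdense n).trans_eq (by rw [hn, cl_bot h]))
  have hbound : ∀ j, op^[j + N] ⊤ ≤ step^[j] H₀ := by
    intro j
    induction j with
    | zero => simpa using hN
    | succ j ih =>
      rw [Nat.succ_add, Function.iterate_succ_apply', Function.iterate_succ_apply']
      exact (hmono ih).trans (le_cl h _)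
  have hd' : step^[d] H₀ ≤ step^[i] H₀ := (antitone_nat_of_succ_le (f := fun i => step^[i] H₀) hle) hid
  exact le_bot_iff.1 ((hbound d).trans (hd'.trans_eq hi))

/-- The component of the identity. -/
theorem exists_component {N : ℕ} {ι : Type*} [Fintype ι] (hι : Fintype.card ι ≤ N) (Z : ι → Set Γ)
    (hZ : ∀ i, IsClosed (Z i) ∧ IsPreirreducible (Z i)) (hcov : ∀ x, ∃ i, x ∈ Z i) (h : IsSepCont Γ) :
    ∃ H : Subgroup Γ, H.Normal ∧ IsClosed (H : Set Γ) ∧ IsIrreducible (H : Set Γ) ∧ Finite (Γ ⧸ H) ∧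
      Nat.card (Γ ⧸ H) ≤ N := by
  classical
  have hsub : ∀ C ∈ irreducibleComponents Γ, ∃ i, C = Z i := by
    intro C hC
    obtain ⟨t, ht, htC⟩ := isIrreducible_iff_sUnion_isClosed.1 hC.1 (Finset.univ.image Z)
      (fun z hz => by obtain ⟨i, -, rfl⟩ := Finset.mem_image.1 hz; exact (hZ i).1)
      (fun x _ => by obtain ⟨i, hi⟩ := hcov x; exact ⟨Z i, by simp, hi⟩)
    obtain ⟨i, -, rfl⟩ := Finset.mem_image.1 ht
    exact ⟨i, le_antisymm htC (hC.2 ⟨hC.1.nonempty.mono htC, (hZ i).2⟩ htC)⟩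
  have hfin : (irreducibleComponents Γ).Finite := (Set.finite_range Z).subset fun C hC => by
    obtain ⟨i, rfl⟩ := hsub C hC
    exact ⟨i, rfl⟩
  -- homeomorphisms permute the components
  have himg : ∀ (e : Γ ≃ₜ Γ) (C : Set Γ), C ∈ irreducibleComponents Γ → e '' C ∈ irreducibleComponents Γ := by
    intro e C hC
    refine ⟨hC.1.image e e.continuous.continuousOn, fun D hD hCD => ?_⟩
    have h1 : C ⊆ e.symm '' D := fun x hx => ⟨e x, hCD ⟨x, hx, rfl⟩, e.symm_apply_apply x⟩
    intro y hy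
    exact ⟨e.symm y, hC.2 (hD.image e.symm e.symm.continuous.continuousOn) h1 ⟨y, hy, rfl⟩, e.apply_symm_apply y⟩
  let L : Γ → Γ ≃ₜ Γ := fun a =>
    { toEquiv := Equiv.mulLeft a
      continuous_toFun := h.left a
      continuous_invFun := by simpa using h.left a⁻¹ }
  let K : Γ → Γ ≃ₜ Γ := fun a =>
    { toEquiv := (MulAut.conj a).toEquiv
      continuous_toFun := by
        show Continuous fun x => a * x * a⁻¹
        exact (h.right a⁻¹).comp (h.left a)
      continuous_invFun := by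
        show Continuous fun x => a⁻¹ * x * a
        exact (h.right a).comp (h.left a⁻¹) }
  have h1C : (1 : Γ) ∈ irreducibleComponent (1 : Γ) := mem_irreducibleComponent
  have hCmem : irreducibleComponent (1 : Γ) ∈ irreducibleComponents Γ := irreducibleComponent_mem_irreducibleComponents 1
  obtain ⟨x₀, hx₀, hx₀'⟩ : ∃ x₀ ∈ irreducibleComponent (1 : Γ),
      ∀ D ∈ irreducibleComponents Γ, x₀ ∈ D → D = irreducibleComponent (1 : Γ) := by
    by_contra hcon
    have hcover : ∀ x ∈ irreducibleComponent (1 : Γ), ∃ D ∈ (hfin.toFinset.erase (irreducibleComponent (1 : Γ))), x ∈ D := by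
      intro x hx
      by_contra hx'
      exact hcon ⟨x, hx, fun D hD hxD => by_contra fun hne => hx' ⟨D, Finset.mem_erase.2 ⟨hne, hfin.mem_toFinset.2 hD⟩, hxD⟩⟩
    obtain ⟨D, hD, hCD⟩ := isIrreducible_iff_sUnion_isClosed.1 hCmem.1 _
      (fun D hD => isClosed_of_mem_irreducibleComponents D (hfin.mem_toFinset.1 (Finset.mem_of_mem_erase hD)))
      (fun x hx => by obtain ⟨D, hD, hxD⟩ := hcover x hx; exact ⟨D, hD, hxD⟩)
    have hD' := hfin.mem_toFinset.1 (Finset.mem_of_mem_erase hD)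
    exact Finset.ne_of_mem_erase hD (le_antisymm (hCmem.2 hD'.1 hCD) hCD)
  -- every point lies on one component
  have huniq : ∀ x C D, C ∈ irreducibleComponents Γ → D ∈ irreducibleComponents Γ → x ∈ C → x ∈ D → C = D := by
    intro x C D hC hD hxC hxD
    have e : L (x₀ * x⁻¹) x = x₀ := inv_mul_cancel_right x₀ x
    have e1 := hx₀' _ (himg (L (x₀ * x⁻¹)) C hC) ⟨x, hxC, e⟩
    have e2 := hx₀' _ (himg (L (x₀ * x⁻¹)) D hD) ⟨x, hxD, e⟩
    exact (L (x₀ * x⁻¹)).injective.image_injective (e1.trans e2.symm)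
  have hgC : ∀ g : Γ, g ∈ irreducibleComponent (1 : Γ) → L g '' irreducibleComponent (1 : Γ) = irreducibleComponent 1 :=
    fun g hg => huniq g _ _ (himg _ _ hCmem) hCmem ⟨1, h1C, mul_one g⟩ hg
  let H : Subgroup Γ :=
    { carrier := irreducibleComponent (1 : Γ)
      one_mem' := h1C
      mul_mem' := fun {a b} ha hb => by
        rw [← hgC a ha]
        exact ⟨b, hb, rfl⟩
      inv_mem' := fun {a} ha => by
        have e : L a⁻¹ '' irreducibleComponent (1 : Γ) = irreducibleComponent 1 :=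
          huniq 1 _ _ (himg _ _ hCmem) hCmem ⟨a, ha, inv_mul_cancel a⟩ h1C
        rw [← e]
        exact ⟨1, h1C, mul_one a⁻¹⟩ }
  let φ : Γ ⧸ H → irreducibleComponents Γ := Quotient.lift
    (fun g => ⟨L g '' irreducibleComponent (1 : Γ), himg _ _ hCmem⟩) (fun a b hab => by
      have hab' : a⁻¹ * b ∈ irreducibleComponent (1 : Γ) := QuotientGroup.leftRel_apply.1 hab
      exact Subtype.ext (huniq b _ _ (himg _ _ hCmem) (himg _ _ hCmem) ⟨a⁻¹ * b, hab', mul_inv_cancel_left a b⟩
        ⟨1, h1C, mul_one b⟩))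
  have hφ : Function.Injective φ := by
    intro x y hxy
    induction x using QuotientGroup.induction_on with
    | H a =>
      induction y using QuotientGroup.induction_on with
      | H b =>
        have e : L a '' irreducibleComponent (1 : Γ) = L b '' irreducibleComponent (1 : Γ) := congrArg Subtype.val hxy
        obtain ⟨c, hc, hcb⟩ : b ∈ L a '' irreducibleComponent (1 : Γ) := by rw [e]; exact ⟨1, h1C, mul_one b⟩
        refine QuotientGroup.eq.2 ?_
        rw [← hcb]
        show a⁻¹ * (a * c) ∈ irreducibleComponent (1 : Γ)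
        rwa [inv_mul_cancel_left]
  haveI := hfin.to_subtype
  haveI : Finite (Γ ⧸ H) := Finite.of_injective φ hφ
  refine ⟨H, ⟨fun x hx g => ?_⟩, isClosed_of_mem_irreducibleComponents _ hCmem, hCmem.1, inferInstance, ?_⟩
  · have e : K g '' irreducibleComponent (1 : Γ) = irreducibleComponent 1 :=
      huniq 1 _ _ (himg _ _ hCmem) hCmem ⟨1, h1C, map_one (MulAut.conj g)⟩ h1C
    show g * x * g⁻¹ ∈ irreducibleComponent (1 : Γ)
    rw [← e]
    exact ⟨x, hx, rfl⟩
  · refine (Nat.card_le_card_of_injective φ hφ).trans ?_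
    let ψ : irreducibleComponents Γ → ι := fun C => (hsub C.1 C.2).choose
    have hψ : Function.Injective ψ := fun C D e => Subtype.ext (by
      rw [(hsub C.1 C.2).choose_spec, (hsub D.1 D.2).choose_spec]
      exact congrArg Z e)
    exact (Nat.card_le_card_of_injective ψ hψ).trans (by simpa [Nat.card_eq_fintype_card] using hι)

include h in
/-- The derived length is bounded by the dimension plus the number of components. -/
theorem derivedSeries_bound {N d : ℕ} {ι : Type*} [Fintype ι] (hι : Fintype.card ι ≤ N) (Z : ι → Set Γ)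
    (hZ : ∀ i, IsClosed (Z i) ∧ IsPreirreducible (Z i)) (hcov : ∀ x, ∃ i, x ∈ Z i)
    (hd : topologicalKrullDim Γ ≤ (d : WithBot ℕ∞)) {n : ℕ} (hn : derivedSeries Γ n = ⊥) :
    derivedSeries Γ (d + N) = ⊥ := by
  obtain ⟨H, hH, hc, hirr, hf, hcard⟩ := exists_component hι Z hZ hcov h
  rw [derivedSeries_eq_iterate] at hn ⊢
  refine iterate_le_bot h _ (fun A B hAB => Subgroup.commutator_mono hAB hAB) (fun A => commutator_cl_le h A A)
    (fun A hA => isIrreducible_cl_commutator h A A hA) H hc hirr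
    (fun A hA => ⟨inferInstance, Subgroup.commutator_le_self A⟩) hn ?_ hd
  rw [← derivedSeries_eq_iterate] at hn ⊢
  have hQn : derivedSeries (Γ ⧸ H) n = ⊥ := by
    rw [← map_derivedSeries_eq (QuotientGroup.mk'_surjective H), hn, Subgroup.map_bot]
  have hQ : derivedSeries (Γ ⧸ H) N = ⊥ := by
    rw [derivedSeries_eq_iterate] at hQn ⊢
    exact iterate_card_eq_bot _ (fun i j hij => by
      simp only [← derivedSeries_eq_iterate]; exact derivedSeries_antitone _ hij) hQn hcard
  have h1 : (derivedSeries Γ N).map (QuotientGroup.mk' H) = ⊥ := by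
    rw [map_derivedSeries_eq (QuotientGroup.mk'_surjective H), hQ]
  rwa [Subgroup.map_eq_bot_iff, QuotientGroup.ker_mk'] at h1

include h in
/-- The nilpotency class is bounded by the dimension plus the number of components. -/
theorem lcs_bound {N d : ℕ} {ι : Type*} [Fintype ι] (hι : Fintype.card ι ≤ N) (Z : ι → Set Γ)
    (hZ : ∀ i, IsClosed (Z i) ∧ IsPreirreducible (Z i)) (hcov : ∀ x, ∃ i, x ∈ Z i)
    (hd : topologicalKrullDim Γ ≤ (d : WithBot ℕ∞)) {n : ℕ}
    (hn : Subgroup.lowerCentralSeries (⊤ : Subgroup Γ) n = ⊥) :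
    Subgroup.lowerCentralSeries (⊤ : Subgroup Γ) (d + N) = ⊥ := by
  obtain ⟨H, hH, hc, hirr, hf, hcard⟩ := exists_component hι Z hZ hcov h
  rw [lcs_eq_iterate] at hn ⊢
  have htop : h.cl (⊤ : Subgroup Γ) = ⊤ := eq_top_iff.2 (le_cl h ⊤)
  refine iterate_le_bot h _ (fun A B hAB => Subgroup.commutator_mono le_rfl hAB)
    (fun A => by have e := commutator_cl_le h ⊤ A; rwa [htop] at e)
    (fun A hA => isIrreducible_cl_commutator h ⊤ A hA) H hc hirr
    (fun A hA => ⟨inferInstance, Subgroup.commutator_le_right _ _⟩) hn ?_ hd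
  rw [← lcs_eq_iterate] at hn ⊢
  have hmap : ∀ i, ((⊤ : Subgroup Γ).lowerCentralSeries i).map (QuotientGroup.mk' H) =
      (⊤ : Subgroup (Γ ⧸ H)).lowerCentralSeries i := fun i => by
    rw [Subgroup.map_lowerCentralSeries, Subgroup.map_top_of_surjective _ (QuotientGroup.mk'_surjective H)]
  have hQn : (⊤ : Subgroup (Γ ⧸ H)).lowerCentralSeries n = ⊥ := by
    rw [← hmap, hn, Subgroup.map_bot]
  have hQ : (⊤ : Subgroup (Γ ⧸ H)).lowerCentralSeries N = ⊥ := by
    rw [lcs_eq_iterate] at hQn ⊢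
    exact iterate_card_eq_bot _ (fun i j hij => by
      simp only [← lcs_eq_iterate]; exact Subgroup.lowerCentralSeries_antitone _ hij) hQn hcard
  have h1 : ((⊤ : Subgroup Γ).lowerCentralSeries N).map (QuotientGroup.mk' H) = ⊥ := by rw [hmap, hQ]
  rwa [Subgroup.map_eq_bot_iff, QuotientGroup.ker_mk'] at h1

end Groth.Agent.ClassBound
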